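import Groth.Agent.AlgGrp.K395.PicRat
import Groth.Agent.Pi1.H413.SecChart

/-!
# Invertible modules on open subschemes of affine spaces over a normal base

`V ⊂ 𝔸(n; S)` open, `T = Y ×_S V` with `Y` normal and `T → Y` surjective: every invertible module on `T` comes
from `Y`.
-/

set_option autoImplicit false
universe u
open CategoryTheory Limits AlgebraicGeometry
open Groth.Agent.Grpsch.PicGrp

namespace K662.OpenAff

variable {n : Type u} {S Y V T : Scheme.{u}}

/-- The fibres of `T ⟶ Y` are open in affine spaces. -/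
theorem exists_openImm {g : Y ⟶ S} {j : V ⟶ 𝔸(n; S)} [IsOpenImmersion j] {p : T ⟶ Y} {a : T ⟶ V}
    (sq : IsPullback a p (j ≫ (𝔸(n; S) ↘ S)) g) (y : Y) :
    ∃ φ : p.fiber y ⟶ Spec (CommRingCat.of (MvPolynomial n (Y.residueField y))), IsOpenImmersion φ := by
  let g' : Spec (Y.residueField y) ⟶ S := Y.fromSpecResidueField y ≫ g
  have h1 : IsPullback (p.fiberι y) (p.fiberToSpecResidueField y) p (Y.fromSpecResidueField y) :=
    IsPullback.of_hasPullback p (Y.fromSpecResidueField y)
  have h3 : IsPullback (p.fiberι y ≫ a) (p.fiberToSpecResidueField y) (j ≫ (𝔸(n; S) ↘ S)) g' :=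
    h1.paste_horiz sq
  have h4 : IsPullback (AffineSpace.map n g') (𝔸(n; Spec (Y.residueField y)) ↘ _)
      (𝔸(n; S) ↘ _) g' := AffineSpace.isPullback_map g'
  let φ : p.fiber y ⟶ 𝔸(n; Spec (Y.residueField y)) :=
    h4.lift (p.fiberι y ≫ a ≫ j) (p.fiberToSpecResidueField y) (by
      rw [← h3.w]; simp only [Category.assoc])
  have h5 : IsPullback (p.fiberι y ≫ a) φ j (AffineSpace.map n g') := by
    refine IsPullback.of_bot (v₂₁ := 𝔸(n; Spec (Y.residueField y)) ↘ _) ?_ ?_ h4
    · rw [h4.lift_snd]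
      exact h3
    · rw [h4.lift_fst, Category.assoc]
  have h6 : IsOpenImmersion φ := MorphismProperty.of_isPullback h5 ‹_›
  exact ⟨φ ≫ (AffineSpace.SpecIso n (Y.residueField y)).hom, inferInstance⟩

/-- Every class on `T` comes from `Y`. -/
theorem exists_pull [Finite n] {g : Y ⟶ S} {j : V ⟶ 𝔸(n; S)} [IsOpenImmersion j] {p : T ⟶ Y} {a : T ⟶ V}
    (sq : IsPullback a p (j ≫ (𝔸(n; S) ↘ S)) g) (hp : Surjective p) [IsLocallyNoetherian Y]
    (hY : Pi1.IsNormalScheme Y) (c : Pic T) : ∃ d : Pic Y, pull p d = c := by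
  obtain ⟨L, hL, rfl⟩ := exists_mk c
  have := Groth.Agent.Pi1.H413.SecChart.smooth_affineSpace n S
  have h0 : Smooth (j ≫ (𝔸(n; S) ↘ S)) := inferInstance
  have h0' : Smooth p := MorphismProperty.of_isPullback sq h0
  have h3 : Flat p := inferInstance
  have h4 : LocallyOfFinitePresentation p := inferInstance
  have h7 : IsLocallyNoetherian T := LocallyOfFiniteType.isLocallyNoetherian p
  have hne : ∀ y : Y, Nonempty (p.fiber y) := fun y => by
    obtain ⟨z, hz⟩ := p.surjective y
    exact ⟨p.asFiber z |> fun w => hz ▸ w⟩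
  obtain ⟨M, hM, ⟨e⟩⟩ := Groth.Agent.S3840.result p (Or.inr p.isOpenMap) hY
    (fun y _ => by
      obtain ⟨φ, hφ⟩ := exists_openImm sq y
      have := hne y
      exact isIntegral_of_isOpenImmersion φ) L hL
    (fun y _ => by
      obtain ⟨φ, hφ⟩ := exists_openImm sq y
      have := K395.PicRat.trivial_of_openImm φ (pull (p.fiberι y) (mk L hL))
      rwa [pull_mk, mk_eq_one_iff] at this)
  exact ⟨mk M hM, by rw [pull_mk, mk_eq_iff]; exact ⟨e⟩⟩

/-- A section gives surjectivity. -/
theorem surjective_of_section {p : T ⟶ Y} {σ : Y ⟶ T} (hσ : σ ≫ p = 𝟙 Y) : Surjective p :=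
  ⟨fun y => ⟨σ y, by rw [← Scheme.Hom.comp_apply, hσ]; rfl⟩⟩

/-- `p^*` is injective on classes if `p` has a section. -/
theorem pull_injective_of_section {p : T ⟶ Y} {σ : Y ⟶ T} (hσ : σ ≫ p = 𝟙 Y) :
    Function.Injective (pull p) := by
  intro c c' h
  have := congrArg (pull σ) h
  rwa [← pull_comp, ← pull_comp, hσ, pull_id, pull_id] at this

end K662.OpenAff
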